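import Cfsg.Agent.BinaryPSL.Criteria
import Cfsg.Agent.Suzuki.KindCounts

/-!
Binary coset actions of the group of the ovoid: the central subgroup, conjugation and Borel arithmetic.
-/

set_option autoImplicit false

namespace CfsgLib.BinarySuzuki

open CfsgLib.Suzuki CfsgLib.BinaryPSL

section Generic

variable {G : Type*} [Group G]

theorem mem_map_conj {H : Subgroup G} {g x : G} :
    x ∈ H.map (MulAut.conj g).toMonoidHom ↔ g⁻¹ * x * g ∈ H := by
  rw [Subgroup.mem_map_equiv]; simp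

theorem isBinary_conj_iff {H : Subgroup G} (g : G) :
    IsBinary (H.map (MulAut.conj g).toMonoidHom) ↔ IsBinary H :=
  isBinary_map_iff (MulAut.conj g)

theorem map_conj_ne_bot {H : Subgroup G} (h : H ≠ ⊥) (g : G) :
    H.map (MulAut.conj g).toMonoidHom ≠ ⊥ := fun e =>
  h ((Subgroup.map_eq_bot_iff_of_injective _ (MulAut.conj g).injective).1 e)

end Generic

variable {F : Type*} [Field F] {θ : F →+* F} [CharP F 2] [Finite F]

/-- The centre of the translation group. -/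
def cGrp (hT : TitsEndo θ) : Subgroup (grp θ) := (zGrp hT).map (uGrp hT).subtype

theorem mem_cGrp {hT : TitsEndo θ} {g : grp θ} : g ∈ cGrp hT ↔ ∃ b, g = uElt hT 0 b := by
  constructor
  · rintro ⟨u, ⟨b, rfl⟩, rfl⟩
    exact ⟨b, rfl⟩
  · rintro ⟨b, rfl⟩
    exact ⟨uU hT 0 b, ⟨b, rfl⟩, rfl⟩

theorem uElt_mem_cGrp (hT : TitsEndo θ) (b : F) : uElt hT 0 b ∈ cGrp hT := mem_cGrp.2 ⟨b, rfl⟩

theorem cGrp_le_uGrp (hT : TitsEndo θ) : cGrp hT ≤ uGrp hT := fun g hg => by
  obtain ⟨b, rfl⟩ := mem_cGrp.1 hg; exact uElt_mem hT 0 b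

theorem cGrp_le_stabInf (hT : TitsEndo θ) : cGrp hT ≤ stabInf θ :=
  (cGrp_le_uGrp hT).trans (uGrp_le_stabInf hT)

theorem conj_mem_cGrp {hT : TitsEndo θ} {g u : grp θ} (hg : g ∈ stabInf θ) (hu : u ∈ cGrp hT) :
    g * u * g⁻¹ ∈ cGrp hT := by
  obtain ⟨a, c, t, rfl⟩ := exists_of_mem_stabInf hT hg
  obtain ⟨b, rfl⟩ := mem_cGrp.1 hu
  rw [conj_centre]
  exact uElt_mem_cGrp hT _

theorem map_cGrp_of_mem {hT : TitsEndo θ} {g : grp θ} (hg : g ∈ stabInf θ) :
    (cGrp hT).map (MulAut.conj g).toMonoidHom = cGrp hT := by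
  ext x
  rw [mem_map_conj]
  refine ⟨fun h => ?_, fun h => ?_⟩
  · simpa [mul_assoc] using conj_mem_cGrp hg h
  · simpa using conj_mem_cGrp (inv_mem hg) h

/-- Being conjugate to the centre of the translation group. -/
def IsCentre (hT : TitsEndo θ) (H : Subgroup (grp θ)) : Prop :=
  ∃ g, H = (cGrp hT).map (MulAut.conj g).toMonoidHom

theorem uElt_central (hT : TitsEndo θ) (a b e : F) :
    uElt hT a b * uElt hT 0 e = uElt hT 0 e * uElt hT a b := by
  rw [uElt_mul, uElt_mul, map_zero]; simp [add_comm]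

theorem uElt_self_inv (hT : TitsEndo θ) (b : F) : (uElt hT 0 b)⁻¹ = uElt hT 0 b := by
  rw [uElt_inv]; simp [CharTwo.neg_eq]

theorem uElt_central_sq (hT : TitsEndo θ) (b : F) : uElt hT 0 b * uElt hT 0 b = 1 := by
  conv_lhs => arg 1; rw [← uElt_self_inv hT b]
  exact inv_mul_cancel _

theorem uElt_central_ne_one (hT : TitsEndo θ) {b : F} (hb : b ≠ 0) : uElt hT 0 b ≠ 1 := fun h =>
  hb (by rw [← uElt_zero hT, uElt_inj] at h; exact h.2)

theorem borel_mul (hT : TitsEndo θ) (a b c d : F) (s t : Fˣ) :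
    uElt hT a b * tElt hT s * (uElt hT c d * tElt hT t) =
      uElt hT (a + θ s * c) (b + (s : F) ^ 2 * θ s * d + θ a * (θ s * c)) * tElt hT (s * t) := by
  rw [← uElt_mul, ← tElt_mul, ← tElt_conj_uElt]
  group

theorem conj_borel (hT : TitsEndo θ) (a b c d : F) (s : Fˣ) :
    ∃ e, uElt hT c d * (uElt hT a b * tElt hT s) * (uElt hT c d)⁻¹ =
      uElt hT (c + a + θ s * c) e * tElt hT s := by
  rw [show uElt hT c d * (uElt hT a b * tElt hT s) * (uElt hT c d)⁻¹ =
    uElt hT c d * uElt hT a b * (tElt hT s * (uElt hT c d)⁻¹ * (tElt hT s)⁻¹) * tElt hT s by group,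
    uElt_inv, tElt_conj_uElt, uElt_mul, uElt_mul, CharTwo.neg_eq]
  exact ⟨_, rfl⟩

theorem eq_one_of_theta (hT : TitsEndo θ) {c : F} (hc : c ≠ 0) {s : Fˣ} (h : c + θ s * c = 0) :
    s = 1 := by
  have h1 : θ (s : F) = 1 :=
    mul_right_cancel₀ hc (by rw [one_mul]; exact (CharTwo.add_eq_zero.1 h).symm)
  exact Units.ext (θ.injective (by rw [h1, Units.val_one, map_one]))

theorem unit_sq_ne_one {s : Fˣ} (h : s ≠ 1) : s * s ≠ 1 := fun e =>
  h (Units.ext (sq_eq_one (by rw [pow_two, ← Units.val_mul, e, Units.val_one])))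

theorem torus_eq_one (hT : TitsEndo θ) {a b : F} {s : Fˣ}
    (h : uElt hT a b * tElt hT s ∈ uGrp hT) : s = 1 := by
  obtain ⟨c, d, hcd⟩ := h
  refine (eq_of_mul_eq hT (a := a) (c := b) (t := s) (a' := c) (c' := d) (t' := 1) ?_).2.2
  rw [tElt_one, mul_one]
  exact hcd

/-- The centraliser of a central translation is the translation group. -/
theorem mem_uGrp_of_commute (hT : TitsEndo θ) {x : grp θ} {b : F} (hb : b ≠ 0)
    (h : x * uElt hT 0 b = uElt hT 0 b * x) : x ∈ uGrp hT := by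
  have hs : x ∈ stabInf θ := mem_stabInf_of_conj hT (uElt_mem hT 0 b) (uElt_central_ne_one hT hb)
    (by rw [mul_assoc, ← h, inv_mul_cancel_left]; exact uElt_mem hT 0 b)
  obtain ⟨a, c, t, rfl⟩ := exists_of_mem_stabInf hT hs
  have h1 := conj_centre hT a c t b
  rw [h, mul_inv_cancel_right, uElt_inj] at h1
  have ht : t = 1 := mu_injective hT (by
    rw [Units.val_one, one_pow, map_one, one_mul]
    exact mul_right_cancel₀ hb (by rw [one_mul]; exact h1.2.symm))
  rw [ht, tElt_one, mul_one]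
  exact uElt_mem hT a c

/-- An involution among the translations is central. -/
theorem mem_cGrp_of_sq (hT : TitsEndo θ) {x : grp θ} (hx : x ∈ uGrp hT) (h2 : x * x = 1) :
    x ∈ cGrp hT := by
  obtain ⟨a, b, rfl⟩ := hx
  by_cases h1 : uElt hT a b = 1
  · rw [h1]; exact one_mem _
  · obtain rfl := (orderOf_translation hT h1).1 (orderOf_eq_prime (by rw [pow_two, h2]) h1)
    exact uElt_mem_cGrp hT b

end CfsgLib.BinarySuzuki
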