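import Cfsg.Agent.BinarySuzuki.Common

/-!
Subgroups of the normaliser of a torus containing an involution.
-/

set_option autoImplicit false

namespace CfsgLib.BinarySuzuki

open CfsgLib.Suzuki CfsgLib.BinaryPSL

section Generic

variable {G : Type*} [Group G] {C : Subgroup G} {k e : ℕ}

theorem kind_ti (hC : Kind C k e) {g u : G} (hu : u ∈ C) (hu1 : u ≠ 1)
    (hug : u ∈ C.map (MulAut.conj g).toMonoidHom) : C.map (MulAut.conj g).toMonoidHom = C := by
  rw [← (hC.map g).cent u hug hu1, hC.cent u hu hu1]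

theorem mem_normalizer_map {g x : G} :
    x ∈ Subgroup.normalizer ((C.map (MulAut.conj g).toMonoidHom : Subgroup G) : Set G) ↔
      g⁻¹ * x * g ∈ Subgroup.normalizer (C : Set G) := by
  rw [← Subgroup.map_equiv_normalizer_eq, mem_map_conj]

theorem mem_normalizer_of_map_eq {g : G} (h : C.map (MulAut.conj g).toMonoidHom = C) :
    g ∈ Subgroup.normalizer (C : Set G) := by
  rw [Subgroup.mem_normalizer_iff]
  intro n
  nth_rewrite 2 [← h]
  rw [mem_map_conj]
  simp [mul_assoc]

variable [Finite G]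

theorem involution_not_mem (hC : Kind C k e) {z : G} (hz : orderOf z = 2) : z ∉ C :=
  card_two_subset_of_even hC (by rw [hz])

theorem mul_mem_kind (hC : Kind C k e) {z w : G} (hz : z ∈ Subgroup.normalizer (C : Set G))
    (hz2 : orderOf z = 2) (hw : w ∈ Subgroup.normalizer (C : Set G)) (hw2 : orderOf w = 2) :
    z * w ∈ C := by
  obtain ⟨u, hu, hu1⟩ : ∃ u ∈ C, u ≠ 1 := by
    by_contra h
    push Not at h
    have hb : C = ⊥ := (Subgroup.eq_bot_iff_forall _).2 h
    have := hC.card
    rw [hb, Subgroup.card_bot] at this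
    have := hC.gt_one
    omega
  rw [← hC.cent u hu hu1, Subgroup.mem_centralizer_singleton_iff]
  have h1 := hC.involution_inverts hw hw2 hu
  have h2 := hC.involution_inverts hz hz2 (inv_mem hu)
  calc z * w * u = z * (w * u * w⁻¹) * z⁻¹ * (z * w) := by group
    _ = u * (z * w) := by rw [h1, h2, inv_inv]

theorem eq_of_commute (hC : Kind C k e) {z w : G} (hz : z ∈ Subgroup.normalizer (C : Set G))
    (hz2 : orderOf z = 2) (hw : w ∈ Subgroup.normalizer (C : Set G)) (hw2 : orderOf w = 2)
    (hc : Commute z w) : z = w := by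
  have hzz : z ^ 2 = 1 := hz2 ▸ pow_orderOf_eq_one z
  have hww : w ^ 2 = 1 := hw2 ▸ pow_orderOf_eq_one w
  have h1 : (z * w) ^ 2 = 1 := by rw [hc.mul_pow, hzz, hww, one_mul]
  have hd : orderOf (z * w) = 1 := by
    have hle := Nat.le_of_dvd two_pos (orderOf_dvd_of_pow_eq_one h1)
    have hodd := Nat.odd_iff.1 (hC.orderOf_odd (mul_mem_kind hC hz hz2 hw hw2))
    omega
  rw [eq_inv_of_mul_eq_one_left (orderOf_eq_one_iff.1 hd)]
  exact inv_eq_of_mul_eq_one_right (by rw [← pow_two]; exact hww)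

theorem exists_involution (hC : Kind C k e) :
    ∃ z ∈ Subgroup.normalizer (C : Set G), orderOf z = 2 := by
  haveI : Fact (Nat.Prime 2) := ⟨Nat.prime_two⟩
  obtain ⟨⟨z, hz⟩, h⟩ := exists_prime_orderOf_dvd_card' (G := Subgroup.normalizer (C : Set G)) 2
    (by rw [hC.card_normalizer]; rcases hC.index with rfl | rfl <;>
      exact Dvd.dvd.mul_right (by norm_num) k)
  exact ⟨z, hz, by rwa [Subgroup.orderOf_mk] at h⟩

/-- A subgroup of the normaliser meeting the torus trivially has at most `e` elements. -/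
theorem card_le_index (hC : Kind C k e) {S : Subgroup G} (hS : S ≤ Subgroup.normalizer (C : Set G))
    (hint : ∀ u ∈ S, u ∈ C → u = 1) : Nat.card S ≤ e := by
  have h := Nat.card_le_card_of_injective
    (fun p : S × C => (⟨(p.1 : G) * p.2, mul_mem (hS p.1.2) (Subgroup.le_normalizer p.2.2)⟩ :
      Subgroup.normalizer (C : Set G))) fun p p' he => by
    have he' : (p.1 : G) * p.2 = p'.1 * p'.2 := congrArg Subtype.val he
    have hq : ((p'.1 : G))⁻¹ * p.1 = p'.2 * (p.2 : G)⁻¹ := by
      rw [eq_mul_inv_iff_mul_eq, mul_assoc, he', inv_mul_cancel_left]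
    have h1 := hint _ (mul_mem (inv_mem p'.1.2) p.1.2) (hq ▸ mul_mem p'.2.2 (inv_mem p.2.2))
    have h1' : (p'.1 : G) = p.1 := inv_mul_eq_one.1 h1
    refine Prod.ext (Subtype.ext h1'.symm) (Subtype.ext ?_)
    rw [h1'] at he'
    exact mul_left_cancel he'
  rw [Nat.card_prod, hC.card, hC.card_normalizer] at h
  exact Nat.le_of_mul_le_mul_right h (by have := hC.gt_one; omega)

end Generic

section Main

variable {F : Type*} [Field F] [Fintype F] [CharP F 2] {m : ℕ}
  {C : Subgroup (grp (theta F m))} {k e : ℕ}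

theorem mem_or_involution (hm : 1 ≤ m) (hF : Fintype.card F = 2 ^ (2 * m + 1)) (hC : Kind C k e)
    {x : grp (theta F m)} (hx : x ∈ Subgroup.normalizer (C : Set (grp (theta F m)))) (hxC : x ∉ C) :
    ∃ n : ℕ, orderOf (x ^ n) = 2 := by
  obtain ⟨n, hn⟩ := hC.two_power hm hF hx hxC
  rcases n with _ | n
  · exact absurd (orderOf_eq_one_iff.1 (hn.trans (pow_zero 2)) ▸ one_mem C) hxC
  · refine ⟨2 ^ n, ?_⟩
    rw [orderOf_pow_of_dvd (by positivity) (hn ▸ pow_dvd_pow 2 (Nat.le_succ n)), hn,
      Nat.pow_div (Nat.le_succ n) two_pos, Nat.succ_sub (le_refl n), Nat.sub_self, pow_one]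

/-- Intersections with a conjugate are trivial if no involution is shared. -/
theorem eq_one_of_no_shared (hm : 1 ≤ m) (hF : Fintype.card F = 2 ^ (2 * m + 1)) (hC : Kind C k e)
    {g : grp (theta F m)} (hne : C.map (MulAut.conj g).toMonoidHom ≠ C)
    (hno : ¬ ∃ i, orderOf i = 2 ∧ i ∈ Subgroup.normalizer (C : Set (grp (theta F m))) ∧
      g⁻¹ * i * g ∈ Subgroup.normalizer (C : Set (grp (theta F m))))
    {x : grp (theta F m)} (hx : x ∈ Subgroup.normalizer (C : Set (grp (theta F m))))
    (hxg : g⁻¹ * x * g ∈ Subgroup.normalizer (C : Set (grp (theta F m)))) : x = 1 := by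
  by_cases hxC : x ∈ C
  · by_contra h1
    refine hne (kind_ti hC hxC h1 ?_)
    rw [mem_map_conj]
    refine hC.mem_of_odd hxg ?_
    rw [show g⁻¹ * x * g = MulAut.conj g⁻¹ x by simp, MulEquiv.orderOf_eq]
    exact hC.orderOf_odd hxC
  · obtain ⟨n, hn⟩ := mem_or_involution hm hF hC hx hxC
    refine absurd ⟨x ^ n, hn, pow_mem hx n, ?_⟩ hno
    rw [show g⁻¹ * x ^ n * g = (g⁻¹ * x * g) ^ n by simpa using map_pow (MulAut.conj g⁻¹) x n]
    exact pow_mem hxg n

/-- Some conjugation `a ↦ b` shares no involution between the normalisers. -/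
theorem exists_good (hm : 1 ≤ m) (hF : Fintype.card F = 2 ^ (2 * m + 1)) (hC : Kind C k e)
    (hbound : k * e < Nat.card F ^ 2) {a y : grp (theta F m)} {lam : F} (hlam : lam ≠ 0)
    (haN : a ∈ Subgroup.normalizer (C : Set (grp (theta F m))))
    (ha : a = y * uElt (titsEndo_theta hm hF) 0 1 * y⁻¹)
    (hb : y * uElt (titsEndo_theta hm hF) 0 lam * y⁻¹ ∉ Subgroup.normalizer (C : Set (grp (theta F m)))) :
    ∃ g, g * a * g⁻¹ = y * uElt (titsEndo_theta hm hF) 0 lam * y⁻¹ ∧
      ∀ x ∈ Subgroup.normalizer (C : Set (grp (theta F m))),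
        g⁻¹ * x * g ∈ Subgroup.normalizer (C : Set (grp (theta F m))) → x = 1 := by
  classical
  set hT := titsEndo_theta hm hF
  set N := Subgroup.normalizer (C : Set (grp (theta F m))) with hN
  set b := y * uElt hT 0 lam * y⁻¹ with hbdef
  obtain ⟨t, ht⟩ := mu_surjective hT hlam
  let g : uGrp hT → grp (theta F m) := fun u => y * tElt hT t * u * y⁻¹
  have hg : ∀ u, g u * a * (g u)⁻¹ = b := by
    rintro ⟨_, c, d, rfl⟩
    show y * tElt hT t * uElt hT c d * y⁻¹ * a * (y * tElt hT t * uElt hT c d * y⁻¹)⁻¹ = b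
    rw [ha, show y * tElt hT t * uElt hT c d * y⁻¹ * (y * uElt hT 0 1 * y⁻¹) *
      (y * tElt hT t * uElt hT c d * y⁻¹)⁻¹ =
      y * (tElt hT t * (uElt hT c d * uElt hT 0 1 * (uElt hT c d)⁻¹) * (tElt hT t)⁻¹) * y⁻¹ by group,
      uElt_central, mul_inv_cancel_right, tElt_conj_uElt, mul_zero, mul_one, ht, hbdef]
  have ha2 : orderOf a = 2 := by
    rw [ha, show y * uElt hT 0 1 * y⁻¹ = MulAut.conj y (uElt hT 0 1) by simp, MulEquiv.orderOf_eq]
    exact (orderOf_translation hT (uElt_central_ne_one hT one_ne_zero)).2 rfl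
  have hgne : ∀ u, C.map (MulAut.conj (g u)).toMonoidHom ≠ C := fun u h => hb (by
    rw [← hg u]
    exact mul_mem (mul_mem (mem_normalizer_of_map_eq h) haN) (inv_mem (mem_normalizer_of_map_eq h)))
  by_contra hcon
  push Not at hcon
  have hbad : ∀ u, ∃ i : {i : N // orderOf (i : grp (theta F m)) = 2},
      (g u)⁻¹ * (i : N) * g u ∈ N := by
    intro u
    obtain ⟨x, hx, hxg, hx1⟩ := hcon (g u) (hg u)
    by_contra h
    push Not at h
    exact hx1 (eq_one_of_no_shared hm hF hC (hgne u)
      (fun ⟨i, hi2, hiN, hig⟩ => h ⟨⟨i, hiN⟩, hi2⟩ hig) hx hxg)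
  choose i hi using hbad
  have hcard := hC.counts fun y hy hyC => hC.two_power hm hF hy hyC
  have hfib : ∀ u u', i u = i u' → (g u)⁻¹ * g u' ∈ N := by
    intro u u' hii
    have key : ∀ v, C.map (MulAut.conj (g v)).toMonoidHom =
        Subgroup.centralizer {((i v : N) : grp (theta F m)) * b} := by
      intro v
      have hK := hC.map (g v)
      have h1 : ((i v : N) : grp (theta F m)) ∈
          Subgroup.normalizer ((C.map (MulAut.conj (g v)).toMonoidHom : Subgroup (grp (theta F m))) :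
            Set (grp (theta F m))) := mem_normalizer_map.2 (hi v)
      have h2 : b ∈ Subgroup.normalizer ((C.map (MulAut.conj (g v)).toMonoidHom :
          Subgroup (grp (theta F m))) : Set (grp (theta F m))) := by
        rw [mem_normalizer_map, ← hg v]
        simpa [mul_assoc] using haN
      have hb2 : orderOf b = 2 := by
        rw [← hg v, show g v * a * (g v)⁻¹ = MulAut.conj (g v) a by simp, MulEquiv.orderOf_eq, ha2]
      refine (hK.cent _ (mul_mem_kind hK h1 (i v).2 h2 hb2) ?_).symm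
      intro h
      apply hb
      have : b = ((i v : N) : grp (theta F m))⁻¹ := (inv_eq_of_mul_eq_one_right h).symm
      rw [this]
      exact inv_mem (i v : N).2
    have h := (key u).trans ((hii ▸ key u').symm)
    refine mem_normalizer_of_map_eq ?_
    ext z
    rw [mem_map_conj]
    have h' := SetLike.ext_iff.1 h.symm (g u * z * (g u)⁻¹)
    rw [mem_map_conj, mem_map_conj] at h'
    simpa [mul_assoc] using h'
  let S : Subgroup (grp (theta F m)) := N ⊓ (uGrp hT).map (MulAut.conj y).toMonoidHom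
  have hS : Nat.card S ≤ e := by
    refine card_le_index hC inf_le_left fun u hu huC => ?_
    obtain ⟨n, hn⟩ := orderOf_of_translation hm hF (mem_map_conj.1 (Subgroup.mem_inf.1 hu).2)
    have hodd := hC.orderOf_odd huC
    rcases n with _ | n
    · exact orderOf_eq_one_iff.1 (hn.trans (pow_zero 2))
    · rw [hn] at hodd
      exact absurd hodd (Nat.not_odd_iff_even.2 ((Nat.even_pow' (Nat.succ_ne_zero n)).2 even_two))
  haveI : Fintype (uGrp hT) := Fintype.ofFinite _
  haveI : Fintype {i : N // orderOf (i : grp (theta F m)) = 2} := Fintype.ofFinite _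
  have hle := Finset.card_le_mul_card_image (Finset.univ : Finset (uGrp hT)) (f := i) e fun v _ => by
    by_cases hv : ∃ u, i u = v
    · obtain ⟨u₀, rfl⟩ := hv
      rw [← Fintype.card_subtype, ← Nat.card_eq_fintype_card]
      refine le_trans (Nat.card_le_card_of_injective
        (fun u : {u // i u = i u₀} => (⟨(g u₀)⁻¹ * g u.1, hfib _ _ u.2.symm, ?_⟩ : S)) ?_) hS
      · refine mem_map_conj.2 ?_
        simp only [g]
        convert mul_mem (inv_mem u₀.2) u.1.2 using 1
        group
      · rintro ⟨u, _⟩ ⟨u', _⟩ h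
        have h' := mul_left_cancel (congrArg Subtype.val h)
        simp only [g, mul_left_inj, mul_right_inj] at h'
        exact Subtype.ext (Subtype.ext h')
    · rw [Finset.card_eq_zero.2 (Finset.filter_eq_empty_iff.2 fun u _ h => hv ⟨u, h⟩)]
      exact Nat.zero_le _
  have himg := (Finset.univ.image i).card_le_univ
  rw [Finset.card_univ, ← Nat.card_eq_fintype_card, card_uGrp] at hle
  rw [← Nat.card_eq_fintype_card, hcard.1] at himg
  have := Nat.mul_le_mul_left e himg
  rw [mul_comm e k] at this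
  omega

/-- Subgroups of even order in the normaliser of a torus. -/
theorem not_isBinary_even (hm : 1 ≤ m) (hF : Fintype.card F = 2 ^ (2 * m + 1)) (hC : Kind C k e)
    (hbound : k * e < Nat.card F ^ 2) {H : Subgroup (grp (theta F m))}
    (hH : H ≤ Subgroup.normalizer (C : Set (grp (theta F m))))
    {a : grp (theta F m)} (haH : a ∈ H) (ha : orderOf a = 2) : ¬ IsBinary H := by
  set hT := titsEndo_theta hm hF
  obtain ⟨y, hy⟩ := involution_normal_form hm hF ha
  obtain ⟨lam, hl0, hl1⟩ := hT.big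
  have hl1' : (1 : F) + lam ≠ 0 := fun h => hl1 (CharTwo.add_eq_zero.1 h).symm
  have hay : a = y * uElt hT 0 1 * y⁻¹ := by rw [← hy]; group
  have hout : ∀ d : F, d ≠ 0 → d ≠ 1 →
      y * uElt hT 0 d * y⁻¹ ∉ Subgroup.normalizer (C : Set (grp (theta F m))) := by
    intro d hd0 hd1 hmem
    have h2 : orderOf (y * uElt hT 0 d * y⁻¹) = 2 := by
      rw [show y * uElt hT 0 d * y⁻¹ = MulAut.conj y (uElt hT 0 d) by simp, MulEquiv.orderOf_eq]
      exact (orderOf_translation hT (uElt_central_ne_one hT hd0)).2 rfl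
    have := eq_of_commute hC hmem h2 (hH haH) ha (by
      rw [hay]
      exact Commute.conj ((uElt_central hT 0 d 1)) y)
    rw [hay, mul_left_inj, mul_right_inj, uElt_inj] at this
    exact hd1 this.2
  obtain ⟨g, hg, hgood⟩ := exists_good hm hF hC hbound hl0 (hH haH) hay (hout lam hl0 hl1)
  obtain ⟨k', hk, hgood'⟩ := exists_good hm hF hC hbound hl1' (hH haH) hay
    (hout _ hl1' (fun h => hl0 (by linear_combination h)))
  have hprod : y * uElt hT 0 lam * y⁻¹ * (y * uElt hT 0 (1 + lam) * y⁻¹) = a := by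
    rw [hay, show y * uElt hT 0 lam * y⁻¹ * (y * uElt hT 0 (1 + lam) * y⁻¹) =
      y * (uElt hT 0 lam * uElt hT 0 (1 + lam)) * y⁻¹ by group, uElt_mul, map_zero, zero_mul,
      add_zero, add_zero, add_left_comm, CharTwo.add_self_eq_zero, add_zero]
  refine not_isBinary_of_triple ⟨g, trivial, k', trivial, y * uElt hT 0 lam * y⁻¹,
    y * uElt hT 0 (1 + lam) * y⁻¹, ?_, ?_, by rw [hprod]; exact haH, ?_⟩
  · rw [← hg]; simpa [mul_assoc] using haH
  · rw [← hk]; simpa [mul_assoc] using haH
  · intro x hx z hz hxg hzk he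
    rw [hprod, hgood x (hH hx) (hH hxg), hgood' z (hH hz) (hH hzk), one_mul] at he
    rw [← he, orderOf_one] at ha
    omega

end Main

end CfsgLib.BinarySuzuki
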