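import Cfsg.Agent.BinarySuzuki.Normalizer

/-!
Subgroups of odd order in the normaliser of a torus.
-/

set_option autoImplicit false

open scoped Matrix

namespace CfsgLib.BinarySuzuki

open CfsgLib.Suzuki CfsgLib.BinaryPSL

section Points

variable {F : Type*} [Field F] {θ : F →+* F} [CharP F 2] [Finite F]

/-- The scaling of the point `(1, y)` to a given level. -/
theorem exists_level (hT : TitsEndo θ) {G : F} (hG : G ≠ 0) :
    ∃ p : F → F × F, Function.Injective p ∧ ∀ y, ovF θ (p y).1 (p y).2 = G := by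
  have key : ∀ y, ∃ t : Fˣ, ovF θ (θ t) ((t : F) ^ 2 * θ t * y) = G := by
    intro y
    have hf : ovF θ 1 y ≠ 0 := fun h => one_ne_zero (ovF_ne_zero θ hT.sq h).1
    obtain ⟨r, hr⟩ := sq_surjective (G / ovF θ 1 y)
    have hr' : r ^ 2 = G / ovF θ 1 y := hr
    have hr0 : θ r ≠ 0 := (map_ne_zero θ).2 fun h => by
      rw [h, zero_pow two_ne_zero, eq_comm, div_eq_zero_iff] at hr'
      exact hr'.elim hG hf
    obtain ⟨t, ht⟩ := mu_surjective hT hr0
    refine ⟨t, ?_⟩
    have h1 : (t : F) * θ t = r := θ.injective (by rw [map_mul, hT.sq, ← ht, mul_comm])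
    calc ovF θ (θ t) ((t : F) ^ 2 * θ t * y) = ((t : F) * θ t) ^ 2 * ovF θ 1 y := by
          simp only [ovF, map_mul, map_pow, hT.sq, map_one]; ring
      _ = G := by rw [h1, hr', div_mul_cancel₀ _ hf]
  choose t ht using key
  refine ⟨fun y => (θ (t y), (t y : F) ^ 2 * θ (t y) * y), fun y y' h => ?_, ht⟩
  simp only [Prod.mk.injEq] at h
  rw [θ.injective h.1] at h
  exact mul_left_cancel₀
    (mul_ne_zero (pow_ne_zero 2 (t y').ne_zero) ((map_ne_zero θ).2 (t y').ne_zero)) h.2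

/-- The big cell form of `w u w`. -/
theorem exists_wElt_conj (hT : TitsEndo θ) {a b : F} (h : ovF θ a b ≠ 0) :
    ∃ (c d : F) (t : Fˣ), (t : F) * θ t = ovF θ a b ∧
      wElt hT * uElt hT a b * wElt hT =
        uElt hT (b / ovF θ a b) (a / ovF θ a b) * wElt hT * (uElt hT c d * tElt hT t) := by
  set u' := uElt hT (b / ovF θ a b) (a / ovF θ a b)
  have hs : (u' * wElt hT)⁻¹ * (wElt hT * uElt hT a b * wElt hT) ∈ stabInf θ := by
    rw [MulAction.mem_stabilizer_iff, mul_smul, mul_smul, mul_smul,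
      show wElt hT • (pInf : Projectivization F (Fin 4 → F)) = pt θ 0 0 from wMat_smul_pInf θ,
      uElt_smul_pt_zero, inv_smul_eq_iff, mul_smul,
      show wElt hT • (pInf : Projectivization F (Fin 4 → F)) = pt θ 0 0 from wMat_smul_pInf θ,
      uElt_smul_pt_zero]
    exact wMat_smul_pt θ hT.sq h
  obtain ⟨c, d, t, he⟩ := exists_of_mem_stabInf hT hs
  rw [inv_mul_eq_iff_eq_mul] at he
  refine ⟨c, d, t, ?_, he⟩
  have hm := congrArg
    (fun g : grp θ => ((g : Matrix.SpecialLinearGroup (Fin 4) F) : Matrix (Fin 4) (Fin 4) F) 3 0) he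
  simp [u', uElt, tElt, wElt, uMat_coe, tMat_coe, wMat_coe, Matrix.mul_apply, Fin.sum_univ_four,
    Matrix.vecMul, dotProduct] at hm
  exact hm.symm

/-- The second factor of the splitting is again a conjugate. -/
theorem conj_identity (hT : TitsEndo θ) {a b eps : F} (h : ovF θ a b ≠ 0)
    (hlev : θ (ovF θ a b) * eps = 1) :
    uElt hT a b * (wElt hT * uElt hT 0 eps * wElt hT) * (uElt hT a b)⁻¹ *
        (wElt hT * uElt hT 0 eps * wElt hT) =
      wElt hT * uElt hT (b / ovF θ a b) (a / ovF θ a b) * wElt hT *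
        (uElt hT 0 1 * (wElt hT * uElt hT 0 eps * wElt hT)) *
        (wElt hT * uElt hT (b / ovF θ a b) (a / ovF θ a b) * wElt hT)⁻¹ := by
  obtain ⟨c, d, t, ht, he⟩ := exists_wElt_conj hT h
  set u' := uElt hT (b / ovF θ a b) (a / ovF θ a b)
  have hw : (wElt hT)⁻¹ = wElt hT := inv_eq_of_mul_eq_one_right (wElt_mul_self hT)
  have hww : ∀ x, wElt hT * (wElt hT * x) = x := fun x => by
    rw [← mul_assoc, wElt_mul_self, one_mul]
  have hscale : (uElt hT c d * tElt hT t) * uElt hT 0 eps * (uElt hT c d * tElt hT t)⁻¹ =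
      uElt hT 0 1 := by
    rw [conj_centre, show (t : F) ^ 2 * θ t = θ (ovF θ a b) by rw [← ht, map_mul, hT.sq, mul_comm],
      hlev]
  calc _ = wElt hT * ((wElt hT * uElt hT a b * wElt hT) * uElt hT 0 eps *
        (wElt hT * uElt hT a b * wElt hT)⁻¹ * uElt hT 0 eps) * wElt hT := by
        simp [mul_assoc, mul_inv_rev, hw, hww]
    _ = wElt hT * (u' * wElt hT * ((uElt hT c d * tElt hT t) * uElt hT 0 eps *
        (uElt hT c d * tElt hT t)⁻¹) * wElt hT * (u'⁻¹ * uElt hT 0 eps)) * wElt hT := by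
        rw [he]; simp [mul_assoc, mul_inv_rev, hw]
    _ = wElt hT * (u' * wElt hT * uElt hT 0 1 * wElt hT * (uElt hT 0 eps * u'⁻¹)) * wElt hT := by
        rw [hscale, show u'⁻¹ * uElt hT 0 eps = uElt hT 0 eps * u'⁻¹ by
          rw [inv_mul_eq_iff_eq_mul, ← mul_assoc, uElt_central, mul_inv_cancel_right]]
    _ = _ := by simp [mul_assoc, mul_inv_rev, hw, hww]

end Points

section Main

variable {F : Type*} [Field F] [Fintype F] [CharP F 2] {m : ℕ}
  {C : Subgroup (grp (theta F m))} {k e : ℕ}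

theorem not_isBinary_odd_core (hm : 1 ≤ m) (hF : Fintype.card F = 2 ^ (2 * m + 1)) (hC : Kind C k e)
    {H : Subgroup (grp (theta F m))} (hH : H ≤ C) {eps : F} (heps : eps ≠ 0)
    (hx : uElt (titsEndo_theta hm hF) 0 1 * (wElt (titsEndo_theta hm hF) *
      uElt (titsEndo_theta hm hF) 0 eps * wElt (titsEndo_theta hm hF)) ∈ H)
    (hx1 : uElt (titsEndo_theta hm hF) 0 1 * (wElt (titsEndo_theta hm hF) *
      uElt (titsEndo_theta hm hF) 0 eps * wElt (titsEndo_theta hm hF)) ≠ 1) : ¬ IsBinary H := by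
  set hT := titsEndo_theta hm hF
  set r := wElt hT * uElt hT 0 eps * wElt hT with hr
  set x := uElt hT 0 1 * r with hxdef
  obtain ⟨G, hG⟩ := hT.surj eps⁻¹
  have hG0 : G ≠ 0 := fun h => inv_ne_zero heps (by rw [← hG, h, map_zero])
  obtain ⟨p, hpinj, hp⟩ := exists_level hT hG0
  obtain ⟨y, hy⟩ : ∃ y, uElt hT (p y).1 (p y).2 ∉
      Subgroup.normalizer (C : Set (grp (theta F m))) := by
    by_contra h
    push Not at h
    have hS : Nat.card (Subgroup.normalizer (C : Set (grp (theta F m))) ⊓ uGrp hT :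
        Subgroup (grp (theta F m))) ≤ e := by
      refine card_le_index hC inf_le_left fun u hu huC => ?_
      obtain ⟨n, hn⟩ := orderOf_of_translation hm hF (g := u) (x := 1)
        (by simpa using (Subgroup.mem_inf.1 hu).2)
      have hodd := hC.orderOf_odd huC
      rcases n with _ | n
      · exact orderOf_eq_one_iff.1 (hn.trans (pow_zero 2))
      · rw [hn] at hodd
        exact absurd hodd (Nat.not_odd_iff_even.2 ((Nat.even_pow' (Nat.succ_ne_zero n)).2 even_two))
    have hle := Nat.card_le_card_of_injective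
      (fun y => (⟨uElt hT (p y).1 (p y).2, Subgroup.mem_inf.2 ⟨h y, uElt_mem hT _ _⟩⟩ :
        (Subgroup.normalizer (C : Set (grp (theta F m))) ⊓ uGrp hT : Subgroup (grp (theta F m)))))
      fun y y' he => hpinj (by
        obtain ⟨e1, e2⟩ := (uElt_inj hT).1 (congrArg Subtype.val he)
        exact Prod.ext e1 e2)
    have h8 : 2 ^ 3 ≤ Nat.card F := by
      rw [Nat.card_eq_fintype_card, hF]
      exact Nat.pow_le_pow_right (by norm_num) (by omega)
    rcases hC.index with rfl | rfl <;> omega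
  set u := uElt hT (p y).1 (p y).2 with hu
  have hf : ovF (theta F m) (p y).1 (p y).2 ≠ 0 := by rw [hp]; exact hG0
  set K := wElt hT * uElt hT ((p y).2 / ovF (theta F m) (p y).1 (p y).2)
    ((p y).1 / ovF (theta F m) (p y).1 (p y).2) * wElt hT
  have hc : u * r * u⁻¹ * r = K * x * K⁻¹ :=
    conj_identity hT hf (by rw [hp, hG, inv_mul_cancel₀ heps])
  have hbc : u * x * u⁻¹ * (K * x * K⁻¹) = x := by
    have hrr : r * r = 1 := by
      have h1 : ∀ z, wElt hT * (wElt hT * z) = z := fun z => by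
        rw [← mul_assoc, wElt_mul_self, one_mul]
      have h2 : ∀ z, uElt hT 0 eps * (uElt hT 0 eps * z) = z := fun z => by
        rw [← mul_assoc, uElt_central_sq, one_mul]
      simp [hr, mul_assoc, h1, h2, wElt_mul_self]
    rw [← hc, hxdef, show u * (uElt hT 0 1 * r) * u⁻¹ * (u * r * u⁻¹ * r) =
      u * uElt hT 0 1 * (r * r) * u⁻¹ * r by group, hrr, mul_one, hu, uElt_central,
      mul_inv_cancel_right]
  have hxC : x ∈ C := hH hx
  have hbne : u * x * u⁻¹ ∉ C := fun h => hy (mem_normalizer_of_map_eq (kind_ti hC h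
    (fun e => hx1 (conj_eq_one_iff.1 e)) (by rw [mem_map_conj]; simpa [mul_assoc] using hxC)))
  have hKne : C.map (MulAut.conj K).toMonoidHom ≠ C := fun h => hbne (by
    have hcC : K * x * K⁻¹ ∈ C := by
      rw [← h, mem_map_conj]; simpa [mul_assoc] using hxC
    rw [eq_mul_inv_of_mul_eq hbc]
    exact mul_mem hxC (inv_mem hcC))
  have hune : C.map (MulAut.conj u).toMonoidHom ≠ C := fun h => hy (mem_normalizer_of_map_eq h)
  refine not_isBinary_of_triple ⟨u, trivial, K, trivial, u * x * u⁻¹, K * x * K⁻¹,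
    by simpa [mul_assoc] using hx, by simpa [mul_assoc] using hx, by rw [hbc]; exact hx, ?_⟩
  have triv : ∀ (g z : grp (theta F m)), C.map (MulAut.conj g).toMonoidHom ≠ C → z ∈ H →
      g⁻¹ * z * g ∈ H → z = 1 := fun g z hne hz hzg => by_contra fun h1 =>
    hne (kind_ti hC (hH hz) h1 (mem_map_conj.2 (hH hzg)))
  intro z hz z' hz' hzg hzk he
  rw [hbc, triv u z hune hz hzg, triv K z' hKne hz' hzk, one_mul] at he
  exact hx1 he.symm

/-- Non-trivial subgroups of odd order. -/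
theorem not_isBinary_odd (hm : 1 ≤ m) (hF : Fintype.card F = 2 ^ (2 * m + 1)) (hC : Kind C k e)
    {H : Subgroup (grp (theta F m))} (hH : H ≤ C) (h0 : H ≠ ⊥) : ¬ IsBinary H := by
  set hT := titsEndo_theta hm hF
  obtain ⟨z, hzN, hz⟩ := exists_involution hC
  obtain ⟨y, hy⟩ := involution_normal_form hm hF hz
  rw [← isBinary_conj_iff y⁻¹]
  set H1 := H.map (MulAut.conj y⁻¹).toMonoidHom
  set C1 := C.map (MulAut.conj y⁻¹).toMonoidHom
  have hC1 : Kind C1 k e := hC.map y⁻¹
  have hH1 : H1 ≤ C1 := Subgroup.map_mono hH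
  obtain ⟨x0, hx0, hx01⟩ : ∃ x ∈ H1, x ≠ 1 := by
    by_contra h
    push Not at h
    exact map_conj_ne_bot h0 y⁻¹ ((Subgroup.eq_bot_iff_forall _).2 h)
  have hu1 : uElt hT 0 (1 : F) ≠ 1 := uElt_central_ne_one hT one_ne_zero
  have hu2 : orderOf (uElt hT 0 (1 : F)) = 2 := (orderOf_translation hT hu1).2 rfl
  have huN : uElt hT 0 1 ∈ Subgroup.normalizer (C1 : Set (grp (theta F m))) := by
    rw [mem_normalizer_map, ← hy]; simpa [mul_assoc] using hzN
  set t0 := uElt hT 0 1 * x0 with ht0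
  have ht0N : t0 ∈ Subgroup.normalizer (C1 : Set (grp (theta F m))) :=
    mul_mem huN (Subgroup.le_normalizer (hH1 hx0))
  have ht02 : orderOf t0 = 2 := by
    refine orderOf_eq_prime ?_ fun h => involution_not_mem hC1 hu2 ?_
    · have h := hC1.involution_inverts huN hu2 (hH1 hx0)
      rw [uElt_self_inv] at h
      rw [pow_two, ht0, show uElt hT 0 1 * x0 * (uElt hT 0 1 * x0) =
        uElt hT 0 1 * x0 * uElt hT 0 1 * x0 by group, h, inv_mul_cancel]
    · rw [eq_inv_of_mul_eq_one_left h]; exact inv_mem (hH1 hx0)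
  have ht0s : t0 ∉ stabInf (theta F m) := by
    intro h
    obtain ⟨a, b, s, he⟩ := exists_of_mem_stabInf hT h
    have hsq : t0 * t0 = 1 := by rw [← pow_two, ← ht02, pow_orderOf_eq_one]
    have hs : s = 1 := by
      by_contra hs
      rw [he, borel_mul] at hsq
      exact unit_sq_ne_one hs (torus_eq_one hT (hsq ▸ one_mem _))
    rw [hs, tElt_one, mul_one] at he
    obtain ⟨d, hd⟩ := mem_cGrp.1 (mem_cGrp_of_sq hT (he ▸ uElt_mem hT a b) hsq)
    have h2 := eq_of_commute hC1 huN hu2 ht0N ht02 (hd ▸ uElt_central hT 0 1 d)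
    exact hx01 (mul_eq_left.1 (ht0 ▸ h2.symm))
  obtain ⟨y1, hy1⟩ := involution_normal_form hm hF ht02
  obtain ⟨a, b, hp⟩ : ∃ a b, y1 • (pInf : Projectivization F (Fin 4 → F)) = pt (theta F m) a b := by
    refine ((mem_ovoid _).1 (smul_mem_ovoid y1 (pInf_mem _))).resolve_left fun h => ht0s ?_
    have hys : y1 ∈ stabInf (theta F m) := h
    have := mul_mem (mul_mem hys (uGrp_le_stabInf hT (uElt_mem hT 0 (1 : F)))) (inv_mem hys)
    rw [← hy1] at this
    simpa [mul_assoc] using this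
  have hbeta : (uElt hT a b * wElt hT)⁻¹ * y1 ∈ stabInf (theta F m) := by
    rw [MulAction.mem_stabilizer_iff, mul_smul, hp, inv_smul_eq_iff, mul_smul,
      show wElt hT • (pInf : Projectivization F (Fin 4 → F)) = pt (theta F m) 0 0 from wMat_smul_pInf _,
      uElt_smul_pt_zero]
  obtain ⟨eps, heps⟩ := mem_cGrp.1 (conj_mem_cGrp hbeta (uElt_mem_cGrp hT (1 : F)))
  have heps0 : eps ≠ 0 := fun h => hu1 (by rw [h, uElt_zero] at heps; exact conj_eq_one_iff.1 heps)
  set v := (uElt hT a b)⁻¹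
  rw [← isBinary_conj_iff v]
  have hw : (wElt hT)⁻¹ = wElt hT := inv_eq_of_mul_eq_one_right (wElt_mul_self hT)
  have hxv : v * x0 * v⁻¹ = uElt hT 0 1 * (wElt hT * uElt hT 0 eps * wElt hT) := by
    have h1 : x0 = uElt hT 0 1 * t0 := by
      rw [ht0, ← mul_assoc, uElt_central_sq, one_mul]
    rw [h1, ← heps, show t0 = y1 * uElt hT 0 1 * y1⁻¹ by rw [← hy1]; group,
      show uElt hT 0 1 * (wElt hT * ((uElt hT a b * wElt hT)⁻¹ * y1 * uElt hT 0 1 *
        ((uElt hT a b * wElt hT)⁻¹ * y1)⁻¹) * wElt hT) =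
        uElt hT 0 1 * ((wElt hT * (wElt hT)⁻¹) * v * (y1 * uElt hT 0 1 * y1⁻¹) * v⁻¹ *
          (wElt hT * wElt hT)) by simp only [v]; group,
      mul_inv_cancel, wElt_mul_self, one_mul, mul_one,
      show v * (uElt hT 0 1 * (y1 * uElt hT 0 1 * y1⁻¹)) * v⁻¹ =
        (v * uElt hT 0 1 * v⁻¹) * (v * (y1 * uElt hT 0 1 * y1⁻¹) * v⁻¹) by group,
      show v * uElt hT 0 1 * v⁻¹ = uElt hT 0 1 by
        simp only [v, inv_inv]
        rw [mul_assoc, ← uElt_central, inv_mul_cancel_left]]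
  refine not_isBinary_odd_core hm hF (hC1.map v) (Subgroup.map_mono hH1) heps0 ?_ ?_
  · rw [← hxv, mem_map_conj]; simpa [mul_assoc] using hx0
  · rw [← hxv]; exact fun h => hx01 (conj_eq_one_iff.1 h)

/-- Subgroups of the normaliser of a torus. -/
theorem not_isBinary_of_le_normalizer (hm : 1 ≤ m) (hF : Fintype.card F = 2 ^ (2 * m + 1))
    (hC : Kind C k e) (hbound : k * e < Nat.card F ^ 2) {H : Subgroup (grp (theta F m))}
    (hH : H ≤ Subgroup.normalizer (C : Set (grp (theta F m)))) (h0 : H ≠ ⊥) : ¬ IsBinary H := by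
  by_cases h : ∃ a ∈ H, orderOf a = 2
  · obtain ⟨a, ha, ha2⟩ := h
    exact not_isBinary_even hm hF hC hbound hH ha ha2
  · push Not at h
    refine not_isBinary_odd hm hF hC (fun x hx => ?_) h0
    by_contra hxC
    obtain ⟨n, hn⟩ := mem_or_involution hm hF hC (hH hx) hxC
    exact h _ (pow_mem hx n) hn

end Main

end CfsgLib.BinarySuzuki
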